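import Cfsg.Agent.Lib.Transfer.Tate
import Cfsg.Agent.Lib.PGroup.Frattini
import Cfsg.Agent.Lib.Blocks.PConstrained
import Cfsg.Agent.Lib.Blocks.Core
import Cfsg.Agent.Lib.Char.Linear
import Cfsg.Agent.Lib.Char.Descend
import Mathlib.Analysis.Complex.Polynomial.Basic
import Mathlib.RingTheory.RootsOfUnity.AlgebraicallyClosed

/-!
# Principal block characters without fixed vectors on a Sylow subgroup

If every nontrivial character of the principal block has no fixed vector on a Sylow subgroup `Q`,
then every linear character of `Q` extends, and the group has a normal `p`-complement.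
-/

namespace Cfsg.Agent.BlockPLength

open scoped ComplexConjugate
open Cfsg
open scoped Classical

set_option linter.style.haveILetI false

universe u

variable {R : Type u} [Group R] [Fintype R] {p : ℕ} [hp : Fact p.Prime] {M : Ideal AlgInt}

theorem commutator_mem_of_linear {Q : Type u} [Group Q] [Finite Q] {u : Q}
    (h : ∀ μ : Q →* ℂ, μ u = 1) : u ∈ commutator Q := by
  by_contra hu
  haveI : NeZero (Monoid.exponent (Abelianization Q) : ℂ) :=
    ⟨Nat.cast_ne_zero.2 Monoid.exponent_ne_zero_of_finite⟩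
  obtain ⟨φ, hφ⟩ := CommGroup.exists_apply_ne_one_of_hasEnoughRootsOfUnity (Abelianization Q) ℂ
    (a := Abelianization.of u) fun e => hu ((QuotientGroup.eq_one_iff u).1 e)
  exact hφ (Units.ext (h ((Units.coeHom ℂ).comp (φ.comp Abelianization.of))))

theorem classInner_resFun_sylow (hM : IsPModular p M) (Q : Sylow p R)
    [Fintype (Q : Subgroup R)] (_μ : (Q : Subgroup R) →* ℂ) :
    ∃ c : ℂ, ∀ ν : (Q : Subgroup R) →* ℂ,
      ∑ θ ∈ Finset.univ.filter (fun θ : IrrCharacter R => θ ∈ principalBlock M R), conj (θ.1 1) *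
        classInner (Char.resFun (Q : Subgroup R) θ.1) (ν : ↥(Q : Subgroup R) → ℂ) = c := by
  classical
  haveI := hM.2.1
  refine ⟨(Nat.card (Q : Subgroup R) : ℂ)⁻¹ *
    ∑ θ ∈ Finset.univ.filter (fun θ : IrrCharacter R => θ ∈ principalBlock M R), conj (θ.1 1) * θ.1 1, fun ν => ?_⟩
  simp only [classInner, Finset.mul_sum]
  rw [Finset.sum_comm, Finset.sum_eq_single (1 : (Q : Subgroup R))]
  · refine Finset.sum_congr rfl fun θ _ => ?_
    simp only [Char.resFun_apply, Subgroup.coe_one, map_one]
    ring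
  · intro y _ hy
    have hy' : ¬ IsPRegular p (y : R) := by
      obtain ⟨k, hk⟩ := IsPGroup.iff_orderOf.1 Q.isPGroup' y
      rw [Blocks.not_isPRegular_iff, Subgroup.orderOf_coe, hk]
      exact dvd_pow_self p fun h => hy (orderOf_eq_one_iff.1 (by rw [hk, h, pow_zero]))
    have h1 : IsPRegular p (1 : R) := by
      rw [IsPRegular, orderOf_one]
      exact hp.out.not_dvd_one
    have h := congrArg (starRingEnd ℂ)
      (Blocks.weak_orthogonality hM.2.2 (Blocks.isPBlock_principalBlock hM.2.2 (G := R))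
        h1 hy')
    rw [map_sum, map_zero] at h
    simp only [map_mul, Complex.conj_conj] at h
    calc _ = (Nat.card (Q : Subgroup R) : ℂ)⁻¹ * conj (ν y) *
        ∑ θ ∈ Finset.univ.filter (· ∈ principalBlock M R), conj (θ.1 1) * θ.1 (y : R) := by
          rw [Finset.mul_sum]
          refine Finset.sum_congr rfl fun θ _ => ?_
          simp only [Char.resFun_apply]
          ring
      _ = 0 := by rw [h, mul_zero]
  · simp

theorem exists_extension (hM : IsPModular p M) (Q : Sylow p R) [Fintype (Q : Subgroup R)]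
    (hfix : ∀ θ ∈ principalBlock M R,
      classInner (Char.resFun (Q : Subgroup R) θ.1) (fun _ => 1) ≠ 0 → θ = Char.trivialChar R)
    (μ : (Q : Subgroup R) →* ℂ) : ∃ lam : R →* ℂ, ∀ x : (Q : Subgroup R), lam x = μ x := by
  classical
  haveI := hM.2.1
  obtain ⟨c, hc⟩ := classInner_resFun_sylow hM Q μ
  have hB : Char.trivialChar R ∈ principalBlock M R := Blocks.sameBlock_refl _
  have hc1 : c = 1 := by
    rw [← hc 1, Finset.sum_eq_single (Char.trivialChar R)]
    · have h1 : Char.resFun (Q : Subgroup R) (Char.trivialChar R).1 =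
          (Char.trivialChar (Q : Subgroup R)).1 := rfl
      rw [h1, show ((1 : ↥(Q : Subgroup R) →* ℂ) : ↥(Q : Subgroup R) → ℂ) =
        (Char.trivialChar (Q : Subgroup R)).1 from rfl,
        Char.classInner_irr_self (Char.trivialChar _).2]
      simp [Char.trivialChar]
    · intro θ hθ hne
      rw [show ((1 : ↥(Q : Subgroup R) →* ℂ) : ↥(Q : Subgroup R) → ℂ) = fun _ => 1 from rfl]
      rw [Finset.mem_filter] at hθ
      by_contra h
      exact hne (hfix θ hθ.2 fun h0 => h (by rw [h0, mul_zero]))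
    · exact fun h => absurd (Finset.mem_filter.2 ⟨Finset.mem_univ _, hB⟩) h
  have hk : ∀ θ : IrrCharacter R, ∃ k : ℕ,
      classInner (Char.resFun (Q : Subgroup R) θ.1) (μ : ↥(Q : Subgroup R) → ℂ) = k := fun θ =>
    Char.IsCharacter.exists_nat_classInner
      (Char.IsCharacter.restrict (Char.irr_isCharacter θ) _)
      (Char.irr_isCharacter ⟨_, Char.isIrrCharacter_of_monoidHom μ⟩)
  choose k hk using hk
  have h := hc μ
  rw [hc1, Finset.sum_congr rfl (g := fun θ : IrrCharacter R =>
    ((Char.degree θ * k θ : ℕ) : ℂ)) fun θ _ => by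
      rw [hk, Char.apply_one_eq_degree, map_natCast, Nat.cast_mul]] at h
  have h' : ∑ θ ∈ Finset.univ.filter (fun θ : IrrCharacter R => θ ∈ principalBlock M R), Char.degree θ * k θ = 1 := by
    exact_mod_cast h
  obtain ⟨θ, hθ, hne⟩ := Finset.exists_ne_zero_of_sum_ne_zero (h'.trans_ne one_ne_zero)
  have hle := Finset.single_le_sum (f := fun θ => Char.degree θ * k θ)
    (fun _ _ => Nat.zero_le _) hθ
  rw [h'] at hle
  have h1 : Char.degree θ * k θ = 1 := le_antisymm hle (Nat.one_le_iff_ne_zero.2 hne)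
  have hd : θ.1 1 = 1 := by
    rw [Char.apply_one_eq_degree, Nat.eq_one_of_mul_eq_one_right h1, Nat.cast_one]
  obtain ⟨lam, hlam⟩ := Char.IsCharacter.exists_monoidHom (Char.irr_isCharacter θ) hd
  refine ⟨lam, fun x => ?_⟩
  let a : IrrCharacter (Q : Subgroup R) :=
    ⟨_, Char.isIrrCharacter_of_monoidHom (lam.comp (Q : Subgroup R).subtype)⟩
  let b : IrrCharacter (Q : Subgroup R) := ⟨_, Char.isIrrCharacter_of_monoidHom μ⟩
  have hab : a = b := by
    by_contra hne'
    have h0 := Char.classInner_irr a b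
    rw [if_neg hne'] at h0
    have h2 := hk θ
    rw [show Char.resFun (Q : Subgroup R) θ.1 = a.1 from funext fun y => by
      rw [Char.resFun_apply, ← hlam]; rfl, h0, Nat.eq_one_of_mul_eq_one_left h1] at h2
    exact zero_ne_one (h2.trans Nat.cast_one)
  exact congrFun (congrArg Subtype.val hab) x

/-- A Sylow subgroup all whose linear characters extend gives a normal `p`-complement. -/
theorem hasNormalPComplement_of_fixed (hM : IsPModular p M) (Q : Sylow p R)
    [Fintype (Q : Subgroup R)]
    (hfix : ∀ θ ∈ principalBlock M R,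
      classInner (Char.resFun (Q : Subgroup R) θ.1) (fun _ => 1) ≠ 0 → θ = Char.trivialChar R) :
    HasNormalPComplement p R := by
  classical
  refine Transfer.hasNormalPComplement_of_inf_pResidual_le_frattini Q ?_
  rintro u ⟨hu, hres⟩
  refine ⟨⟨u, hu⟩, PGroup.commutator_le_frattini Q.isPGroup'
    (commutator_mem_of_linear fun μ => ?_), rfl⟩
  obtain ⟨lam, hlam⟩ := exists_extension hM Q hfix μ
  set m := ordCompl[p] (Nat.card R) with hm
  have hle : pResidual p R ≤ ((powMonoidHom m : ℂ →* ℂ).comp lam).ker := by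
    rw [pResidual, Subgroup.closure_le]
    intro g hg
    rw [SetLike.mem_coe, MonoidHom.mem_ker, MonoidHom.comp_apply, powMonoidHom_apply, ← map_pow,
      orderOf_dvd_iff_pow_eq_one.1 ?_, map_one]
    have h1 : orderOf g ∣ ordProj[p] (Nat.card R) * ordCompl[p] (Nat.card R) := by
      rw [Nat.ordProj_mul_ordCompl_eq_self]
      exact orderOf_dvd_natCard g
    exact (Nat.Coprime.pow_right _ (show (orderOf g).Coprime p from hg)).dvd_of_dvd_mul_left h1
  have h1 : lam u ^ m = 1 := hle hres
  obtain ⟨j, hj⟩ := IsPGroup.iff_orderOf.1 Q.isPGroup' ⟨u, hu⟩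
  have h2 : lam u ^ p ^ j = 1 := by
    rw [← map_pow, ← hj, Subgroup.orderOf_mk, pow_orderOf_eq_one, map_one]
  rw [← hlam]
  have h3 : Nat.Coprime (p ^ j) m :=
    (Nat.coprime_ordCompl hp.out Nat.card_pos.ne').pow_left j
  have := pow_gcd_eq_one.2 ⟨h2, h1⟩
  rwa [h3, pow_one] at this

end Cfsg.Agent.BlockPLength
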