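import Cfsg.Agent.Lib.Glauberman.PGroup
import Cfsg.Agent.Lib.Glauberman.RelativeBase
import Cfsg.Agent.Lib.Char.FixedIrr

/-!
# Fixed characters and fixed points of two coprime operator groups

If a `p`-group `T` normalises a `q`-group `S` of coprime operators on `M` and every `T`-fixed
irreducible character is `S`-fixed, then `S` fixes every fixed point of `T`.
-/

namespace Cfsg.Agent.BlockPLength

open Cfsg Cfsg.Agent.Glauberman Cfsg.Agent.RelGlauberman
open scoped Classical

set_option linter.style.haveILetI false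

universe u v w

/-- A subgroup meeting every conjugacy class is everything. -/
theorem eq_top_of_meets_classes {C : Type u} [Group C] [Finite C] (E : Subgroup C)
    (h : ∀ c : C, ∃ e ∈ E, IsConj e c) : E = ⊤ := by
  by_contra hE
  haveI := Fintype.ofFinite C
  haveI := Fintype.ofFinite (C ⧸ E)
  have hfix : ∀ g : C, 1 ≤ (Finset.univ.filter fun y : C ⧸ E => g • y = y).card := by
    intro g
    obtain ⟨e, he, hc⟩ := h g
    obtain ⟨a, rfl⟩ := isConj_iff.1 hc
    refine Finset.card_pos.2 ⟨(a : C ⧸ E), Finset.mem_filter.2 ⟨Finset.mem_univ _, ?_⟩⟩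
    show ((a * e * a⁻¹ * a : C) : C ⧸ E) = a
    rw [inv_mul_cancel_right, QuotientGroup.eq]
    simpa using inv_mem he
  have hburn := MulAction.sum_card_fixedBy_eq_card_orbits_mul_card_group C (C ⧸ E)
  rw [Fintype.card_eq_one_iff.2 ⟨Quotient.mk _ ((1 : C) : C ⧸ E), fun y => by
    induction y using Quotient.inductionOn with
    | _ y => exact Quotient.sound (MulAction.exists_smul_eq C ((1 : C) : C ⧸ E) y)⟩, one_mul]
    at hburn
  have hlt : ∑ _g : C, 1 < ∑ g : C, (Finset.univ.filter fun y : C ⧸ E => g • y = y).card := by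
    refine Finset.sum_lt_sum (fun g _ => hfix g) ⟨1, Finset.mem_univ _, ?_⟩
    simp only [one_smul, Finset.filter_true, Finset.card_univ, ← Nat.card_eq_fintype_card]
    exact E.one_lt_index_of_ne_top hE
  have hsum : ∑ g : C, (Finset.univ.filter fun y : C ⧸ E => g • y = y).card = Fintype.card C := by
    rw [← hburn]
    refine Finset.sum_congr rfl fun g _ => ?_
    rw [Fintype.card_subtype]
    rfl
  rw [hsum, Finset.sum_const, smul_eq_mul, mul_one, Finset.card_univ] at hlt
  exact lt_irrefl _ hlt

variable {M : Type u} [Group M] [Fintype M]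

/-- The fixed points of an operator group. -/
def fixedSub {T : Type v} [Group T] (φ : T →* MulAut M) : Subgroup M where
  carrier := {g | ∀ t, φ t g = g}
  one_mem' t := map_one _
  mul_mem' ha hb t := by rw [map_mul, ha t, hb t]
  inv_mem' ha t := by rw [map_inv, ha t]

omit [Fintype M] in
theorem isFixedEmbedding_fixedSub {T : Type v} [Group T] (φ : T →* MulAut M) :
    IsFixedEmbedding φ (fixedSub φ).subtype :=
  ⟨Subtype.val_injective, fun g => ⟨fun ⟨c, hc⟩ t => hc ▸ c.2 t, fun h => ⟨⟨g, h⟩, rfl⟩⟩⟩

variable {p q : ℕ} [hp : Fact p.Prime] [hq : Fact q.Prime]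
  {T : Type v} [Group T] [Finite T] {S : Type w} [Group S] [Finite S]

/-- If every `T`-fixed character is `S`-fixed, then every `T`-fixed point is `S`-fixed. -/
theorem fixed_of_fix (φ : T →* MulAut M) (ψ : S →* MulAut M) (hT : IsPGroup p T)
    (hS : IsPGroup q S) (hMp : ¬ p ∣ Nat.card M) (hMq : ¬ q ∣ Nat.card M)
    (hnorm : ∀ (t : T) (s : S), ∃ s' : S, φ t * ψ s = ψ s' * φ t)
    (h : ∀ χ : IrrCharacter M, IsFix φ χ.1 → IsFix ψ χ.1) :
    fixedSub φ ≤ fixedSub ψ := by
  have hinv : ∀ t, ∀ x ∈ fixedSub ψ, φ t x ∈ fixedSub ψ := by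
    intro t x hx s
    obtain ⟨s', hs'⟩ := hnorm t⁻¹ s
    have h2 : ψ s * φ t = φ t * ψ s' := by
      have e := congrArg (fun f => φ t * f * φ t) hs'
      simp only [← mul_assoc, ← map_mul, mul_inv_cancel, map_one, one_mul] at e
      rw [e, mul_assoc, ← map_mul, inv_mul_cancel, map_one, mul_one]
    have h1 := congrArg (fun f : MulAut M => f x) h2
    simp only [MulAut.mul_apply] at h1
    rw [h1, hx s']
  let φ' := restrictAut φ (fixedSub ψ) hinv
  haveI := Fintype.ofFinite (fixedSub ψ)
  haveI := Fintype.ofFinite (fixedSub φ)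
  haveI := Fintype.ofFinite (fixedSub φ')
  have hιψ := isFixedEmbedding_fixedSub ψ
  have hιφ := isFixedEmbedding_fixedSub φ
  have hι' := isFixedEmbedding_fixedSub φ'
  -- twisting by `T` commutes with the correspondence of `S`
  have htw : ∀ (t : T) {χ : IrrCharacter M} {β : IrrCharacter (fixedSub ψ)},
      Corr q ψ (fixedSub ψ).subtype χ β →
      Corr q ψ (fixedSub ψ).subtype (twistChar (φ t) χ) (twistChar (φ' t) β) := by
    intro t χ β hc
    refine ⟨fun s g => ?_, ?_⟩
    · obtain ⟨s', hs'⟩ := hnorm t s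
      have h1 := congrArg (fun f : MulAut M => f g) hs'
      simp only [MulAut.mul_apply] at h1
      simp only [twistChar_apply, h1, hc.1 s' (φ t g)]
    · rw [mult_twist (φ t) (φ' t) (fun c => rfl)]
      exact hc.2
  have hiff : ∀ (χ : {χ : IrrCharacter M // IsFix ψ χ.1}),
      IsFix φ χ.1.1 ↔ IsFix φ' (corrEquiv hS hιψ hMq χ).1 := by
    intro χ
    have hc := corr_corrEquiv hS hιψ hMq χ
    constructor
    · intro hf t g
      have h1 : twistChar (φ t) χ.1 = χ.1 := Subtype.ext (funext fun x => hf t x)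
      have h2 := htw t hc
      rw [h1] at h2
      exact congrFun (congrArg Subtype.val (corr_right_unique hS hιψ hMq h2 hc)) g
    · intro hf t g
      have h1 : twistChar (φ' t) (corrEquiv hS hιψ hMq χ) = corrEquiv hS hιψ hMq χ :=
        Subtype.ext (funext fun x => hf t x)
      have h2 := htw t hc
      rw [h1] at h2
      exact congrFun (congrArg Subtype.val (corr_left_unique hS hιψ hMq h2 hc)) g
  have hcardq : ¬ p ∣ Nat.card (fixedSub ψ) :=
    fun hd => hMp (hd.trans (Subgroup.card_subgroup_dvd_card _))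
  have e0 : IrrCharacter (fixedSub φ) ≃ IrrCharacter (fixedSub φ') :=
    (corrEquiv hT hιφ hMp).symm.trans
      (((Equiv.subtypeSubtypeEquivSubtype (fun {χ : IrrCharacter M} hχ => h χ hχ)).symm).trans
        ((Equiv.subtypeEquiv (corrEquiv hS hιψ hMq) hiff).trans (corrEquiv hT hι' hcardq)))
  have hcard : Nat.card (ConjClasses (fixedSub φ')) = Nat.card (ConjClasses (fixedSub φ)) := by
    rw [← Char.card_irr, ← Char.card_irr]
    exact Nat.card_congr e0.symm
  -- the inclusion of the common fixed points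
  let j : fixedSub φ' →* fixedSub φ :=
    ((fixedSub ψ).subtype.comp (fixedSub φ').subtype).codRestrict (fixedSub φ)
      fun x t => congrArg Subtype.val (x.2 t)
  have hjinj : Function.Injective (ConjClasses.map j) := by
    intro a b hab
    induction a using Quotient.inductionOn with
    | _ x =>
      induction b using Quotient.inductionOn with
      | _ y =>
        have h1 : IsConj (j x) (j y) := ConjClasses.mk_eq_mk_iff_isConj.1 hab
        have h2 : IsConj ((fixedSub ψ).subtype (x : fixedSub ψ))
            ((fixedSub ψ).subtype (y : fixedSub ψ)) := (fixedSub φ).subtype.map_isConj h1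
        exact ConjClasses.mk_eq_mk_iff_isConj.2
          (exists_conj_of_isConj hT hι' hcardq (exists_conj_of_isConj hS hιψ hMq h2))
  haveI : Finite (ConjClasses (fixedSub φ)) := Finite.of_surjective _ ConjClasses.mk_surjective
  have hjsurj := (Nat.bijective_iff_injective_and_card (ConjClasses.map j)).2 ⟨hjinj, hcard⟩
  have htop : j.range = ⊤ := by
    refine eq_top_of_meets_classes _ fun c => ?_
    obtain ⟨a, ha⟩ := hjsurj.2 (ConjClasses.mk c)
    induction a using Quotient.inductionOn with
    | _ x => exact ⟨j x, ⟨x, rfl⟩, ConjClasses.mk_eq_mk_iff_isConj.1 ha⟩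
  intro g hg
  obtain ⟨x, hx⟩ := (htop ▸ Subgroup.mem_top (⟨g, hg⟩ : fixedSub φ) :
    (⟨g, hg⟩ : fixedSub φ) ∈ j.range)
  rw [show g = ((x : fixedSub ψ) : M) from (congrArg Subtype.val hx).symm]
  exact (x : fixedSub ψ).2

end Cfsg.Agent.BlockPLength
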