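import Cfsg.Agent.Lib.BlockPLength.FixedCentralizer
import Cfsg.Agent.Lib.BlockCount.Criterion
import Cfsg.Agent.Lib.Char.CliffordCorrespondence
import Cfsg.Agent.Lib.Char.Monomial
import Cfsg.Agent.Lib.Char.Descend
import Cfsg.Agent.Lib.Coprime.Sylow
import Cfsg.Agent.Lib.Coprime.Quotient
import Cfsg.Agent.Lib.PCore.PSolvable
import Cfsg.Agent.Lib.PCore.PLength
import Cfsg.Agent.Lib.Solvable.Basic

/-!
# Operator-fixed characters of degree prime to `q`

If a `p`-group `P` acts on a normal `p'`-subgroup `K` and all `P`-fixed irreducible characters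
of `K` have degree prime to `q`, then the fixed points of `P` normalise a `P`-invariant Sylow
`q`-subgroup of `K`.
-/

namespace Cfsg.Agent.BlockPLength

open Cfsg Cfsg.Agent.Glauberman
open scoped Classical Pointwise ComplexConjugate

set_option linter.style.haveILetI false

universe u

variable {p q : ℕ} [hp : Fact p.Prime] [hq : Fact q.Prime] {Y : Type u} [Group Y] [Fintype Y]

omit hp in
theorem eq_of_le_of_isPGroup {A B : Subgroup Y} {K : Subgroup Y} (hAB : A ≤ B) (hBK : B ≤ K)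
    (hB : IsPGroup q B) (hrel : ¬ q ∣ A.relIndex K) : A = B := by
  refine le_antisymm hAB (Subgroup.relIndex_eq_one.1 ?_)
  obtain ⟨k, hk⟩ := hB.exists_card_eq
  have h1 : A.relIndex B ∣ q ^ k := hk ▸ Subgroup.relIndex_dvd_card A B
  have h2 : ¬ q ∣ A.relIndex B := fun h =>
    hrel (h.trans (Dvd.intro _ (Subgroup.relIndex_mul_relIndex A B K hAB hBK)))
  exact Nat.eq_one_of_dvd_coprimes ((hq.out.coprime_iff_not_dvd.2 h2).pow_left k) h1 dvd_rfl

omit hp in
/-- A subgroup of `q'`-index in `K` as a Sylow subgroup of `K`. -/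
theorem exists_sylow_of_relIndex {A K : Subgroup Y} (hAK : A ≤ K) (hA : IsPGroup q A)
    (hrel : ¬ q ∣ A.relIndex K) : ∃ S : Sylow q K, (S : Subgroup K).map K.subtype = A := by
  have h : IsPGroup q (A.subgroupOf K) := hA.of_equiv (Subgroup.subgroupOfEquivOfLe hAK).symm
  refine ⟨h.toSylow hrel, ?_⟩
  show (A.subgroupOf K).map K.subtype = A
  exact Subgroup.map_subgroupOf_eq_of_le hAK

omit hp in
theorem isPGroup_map_sylow {K : Subgroup Y} (S : Sylow q K) :
    IsPGroup q ((S : Subgroup K).map K.subtype) := S.isPGroup'.map _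

omit hp in
theorem not_dvd_relIndex_map_sylow {K : Subgroup Y} (S : Sylow q K) :
    ¬ q ∣ ((S : Subgroup K).map K.subtype).relIndex K := by
  rw [Subgroup.relIndex, Subgroup.subgroupOf,
    Subgroup.comap_map_eq_self_of_injective K.subtype_injective]
  exact S.not_dvd_index

theorem coprime_card_of_isPGroup {P K : Subgroup Y} (hP : IsPGroup p P)
    (hK : ¬ p ∣ Nat.card K) : (Nat.card P).Coprime (Nat.card K) := by
  obtain ⟨k, hk⟩ := hP.exists_card_eq
  rw [hk]
  exact (hp.out.coprime_iff_not_dvd.2 hK).pow_left k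

/-- A fixed character of a normal subgroup lies under a fixed character. -/
theorem exists_fixed_over (P K M : Subgroup Y) [K.Normal] [M.Normal] (hMK : M ≤ K)
    [Fintype K] [Fintype M] [Fintype (M.subgroupOf K)]
    (hP : IsPGroup p P) (hKp : ¬ p ∣ Nat.card K) (φ : IrrCharacter M)
    (hφ : ∀ t ∈ P, Char.conjFun M φ.1 t = φ.1) :
    ∃ θ : IrrCharacter K, (∀ t ∈ P, Char.conjFun K θ.1 t = θ.1) ∧
      classInner (fun m : M => θ.1 (Subgroup.inclusion hMK m)) φ.1 ≠ 0 := by
  let φ' : IrrCharacter (M.subgroupOf K) :=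
    ⟨_, Char.IsIrrCharacter.comp_surjective φ.2 (Subgroup.subgroupOfEquivOfLe hMK).toMonoidHom
      (Subgroup.subgroupOfEquivOfLe hMK).surjective⟩
  obtain ⟨k, hk, -, -, hdeg⟩ := BlockCount.exists_multiplicity (G := K) (H := M.subgroupOf K)
  have hke : ∀ θ : IrrCharacter K,
      classInner (fun m : M => θ.1 (Subgroup.inclusion hMK m)) φ.1 = k θ φ' := fun θ => by
    rw [← hk θ φ', ← Char.classInner_comp_mulEquiv (Subgroup.subgroupOfEquivOfLe hMK)]
    rfl
  let ψ : P →* MulAut K := (MulAut.conjNormal : Y →* MulAut K).comp P.subtype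
  letI := Glauberman.charAction ψ
  let f : IrrCharacter K → ℂ := fun θ => (k θ φ' : ℂ) * θ.1 1
  have hf : ∀ (t : P) (θ : IrrCharacter K), f (t • θ) = f θ := by
    intro t θ
    show (k (twistChar (ψ t⁻¹) θ) φ' : ℂ) * θ.1 (ψ t⁻¹ 1) = (k θ φ' : ℂ) * θ.1 1
    rw [map_one, ← hke, ← hke]
    congr 1
    simp only [classInner]
    congr 1
    refine Fintype.sum_equiv (MulAut.conjNormal ((t : Y)⁻¹) : MulAut M).toEquiv _ _ fun m => ?_
    have h1 : φ.1 ((MulAut.conjNormal ((t : Y)⁻¹) : MulAut M) m) = φ.1 m :=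
      congrFun (hφ _ (inv_mem t.2)) m
    show θ.1 (ψ t⁻¹ (Subgroup.inclusion hMK m)) * conj (φ.1 m) = θ.1 (Subgroup.inclusion hMK
      ((MulAut.conjNormal ((t : Y)⁻¹) : MulAut M) m)) *
      conj (φ.1 ((MulAut.conjNormal ((t : Y)⁻¹) : MulAut M) m))
    rw [h1]
    congr 2

  have hint : ∀ θ, IsIntegral ℤ (f θ) := fun θ => by
    show IsIntegral ℤ ((k θ φ' : ℂ) * θ.1 1)
    rw [Char.apply_one_eq_degree, ← Nat.cast_mul]
    exact isIntegral_natCast' _
  have hsum : ∑ θ, f θ = (((M.subgroupOf K).index * charDegree φ'.1 : ℕ) : ℂ) := by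
    rw [hdeg φ', Nat.cast_sum]
    exact Finset.sum_congr rfl fun θ _ => by rw [Nat.cast_mul, Char.charDegree_cast]
  have hnd : ¬ p ∣ (M.subgroupOf K).index * charDegree φ'.1 := fun h => by
    rcases hp.out.dvd_mul.1 h with h | h
    · exact hKp (h.trans (Subgroup.index_dvd_card _))
    · exact hKp (h.trans ((Char.charDegree_dvd_card φ').trans (Subgroup.card_subgroup_dvd_card _)))
  by_contra! hall
  refine not_pCong_zero_of_not_dvd hnd ?_
  have h := pCong_sum_fixedPoints (p := p) hP f hf hint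
  rw [hsum] at h
  refine h.trans (PCong.of_eq (Finset.sum_eq_zero fun θ hθ => ?_))
  have hfix : IsFix ψ θ.1 := mem_fixedPoints_charAction.1 (Finset.mem_filter.1 hθ).2
  have := hall θ fun t ht => funext fun x => hfix ⟨t, ht⟩ x
  rw [hke] at this
  show (k θ φ' : ℂ) * θ.1 1 = 0
  rw [this, zero_mul]

/-- The inertia group in `K` of a constituent has index prime to `q`. -/
theorem not_dvd_relIndex_inertia (K M : Subgroup Y) [K.Normal] [M.Normal] (hMK : M ≤ K)
    [Fintype K] [Fintype M] [Fintype (M.subgroupOf K)]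
    (θ : IrrCharacter K) (φ : IrrCharacter M) (hθq : ¬ q ∣ Char.degree θ)
    (hne : classInner (fun m : M => θ.1 (Subgroup.inclusion hMK m)) φ.1 ≠ 0) :
    ¬ q ∣ (Char.inertia M φ.1 ⊓ K).relIndex K := by
  let e := Subgroup.subgroupOfEquivOfLe hMK
  let φ' : IrrCharacter (M.subgroupOf K) :=
    ⟨_, Char.IsIrrCharacter.comp_surjective φ.2 e.toMonoidHom e.surjective⟩
  have hne' : classInner (Char.resFun (M.subgroupOf K) θ.1) φ'.1 ≠ 0 := by
    rw [← Char.classInner_comp_mulEquiv e] at hne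
    exact hne
  obtain ⟨j, hj⟩ := Char.IsCharacter.exists_nat_classInner
    (Char.IsCharacter.restrict (Char.irr_isCharacter θ) (M.subgroupOf K)) (Char.irr_isCharacter φ')
  have h1 := Char.apply_one_eq_mul_card_orbit (M.subgroupOf K) θ φ' hne'
  rw [show classInner (Char.resFun (M.subgroupOf K) θ.1) φ'.1 = j from hj,
    Char.apply_one_eq_degree, Char.apply_one_eq_degree, ← Nat.cast_mul, ← Nat.cast_mul,
    Nat.cast_inj, ← Char.index_inertia] at h1
  have hJ : (Char.inertia M φ.1 ⊓ K).subgroupOf K = Char.inertia (M.subgroupOf K) φ'.1 := by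
    have hconj : ∀ (x : K) (n : M.subgroupOf K),
        e (MulAut.conjNormal x n) = MulAut.conjNormal (x : Y) (e n) := fun x n =>
      Subtype.ext (by simp [e])
    ext x
    simp only [Subgroup.mem_subgroupOf, Subgroup.mem_inf, x.2, and_true, Char.mem_inertia]
    constructor
    · intro h
      funext n
      show φ.1 (e (MulAut.conjNormal x n)) = φ.1 (e n)
      rw [hconj]
      exact congrFun h (e n)
    · intro h
      funext m
      obtain ⟨n, rfl⟩ := e.surjective m
      show φ.1 (MulAut.conjNormal (x : Y) (e n)) = φ.1 (e n)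
      rw [← hconj]
      exact congrFun h n
  intro hd
  rw [Subgroup.relIndex, hJ] at hd
  exact hθq (h1 ▸ (hd.mul_right _).mul_left _)

/-- Fixed points in an invariant `q'`-subgroup centralise the invariant Sylow subgroup. -/
theorem inf_centralizer_le_of_qPrime (K P Q M : Subgroup Y) [K.Normal] [M.Normal]
    [Fintype K] [Fintype M] (hP : IsPGroup p P) (hKp : ¬ p ∣ Nat.card K)
    (hyp : ∀ θ : IrrCharacter K, (∀ t ∈ P, Char.conjFun K θ.1 t = θ.1) → ¬ q ∣ Char.degree θ)
    (hQK : Q ≤ K) (hQ : IsPGroup q Q) (hQrel : ¬ q ∣ Q.relIndex K)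
    (hPQ : P ≤ Subgroup.normalizer (Q : Set Y)) (hMK : M ≤ K) (hMq : ¬ q ∣ Nat.card M)
    (hfac : ∀ x ∈ K ⊓ Subgroup.centralizer (P : Set Y),
      ∃ m ∈ M, m⁻¹ * x ∈ Subgroup.normalizer (Q : Set Y)) :
    M ⊓ Subgroup.centralizer (P : Set Y) ≤ Subgroup.centralizer (Q : Set Y) := by
  haveI := Fintype.ofFinite (M.subgroupOf K)
  have hPK : P ≤ Subgroup.normalizer (K : Set Y) := by
    rw [Subgroup.normalizer_eq_top_iff.2 ‹K.Normal›]; exact le_top
  haveI : Group.IsNilpotent P := hP.isNilpotent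
  have hfix : ∀ φ : IrrCharacter M, (∀ t ∈ P, Char.conjFun M φ.1 t = φ.1) →
      ∀ s ∈ Q, Char.conjFun M φ.1 s = φ.1 := by
    intro φ hφ
    obtain ⟨θ, hθ, hne⟩ := exists_fixed_over P K M hMK hP hKp φ hφ
    have hJrel := not_dvd_relIndex_inertia (q := q) K M hMK θ φ (hyp θ hθ) hne
    set J := Char.inertia M φ.1 ⊓ K
    have hJK : J ≤ K := inf_le_right
    have hPI : P ≤ Char.inertia M φ.1 := hφ
    have hPJ : P ≤ Subgroup.normalizer (J : Set Y) :=
      Coprime.le_normalizer_inf_of_le (hPI.trans Subgroup.le_normalizer) hPK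
    obtain ⟨R, hR⟩ := Coprime.exists_invariant_sylow (A := P) (K := J) hPJ
      ((coprime_card_of_isPGroup hP hKp).coprime_dvd_right (Subgroup.card_dvd_of_le hJK))
      (Or.inl inferInstance) q
    set R2 := (R : Subgroup J).map J.subtype
    have hR2J : R2 ≤ J := Subgroup.map_subtype_le _
    obtain ⟨Q2, hR2Q2, hQ2⟩ := Coprime.exists_invariant_sylow_ge hPK
      (coprime_card_of_isPGroup hP hKp) (Or.inl inferInstance) (hR2J.trans hJK)
      (isPGroup_map_sylow R) hR
    have hR2rel : ¬ q ∣ R2.relIndex K := by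
      rw [← Subgroup.relIndex_mul_relIndex R2 J K hR2J hJK]
      exact hq.out.not_dvd_mul (not_dvd_relIndex_map_sylow R) hJrel
    have hR2 := eq_of_le_of_isPGroup hR2Q2 (Subgroup.map_subtype_le _) (isPGroup_map_sylow Q2) hR2rel
    obtain ⟨S, hS⟩ := exists_sylow_of_relIndex hQK hQ hQrel
    obtain ⟨c, hcP, hc⟩ := Coprime.exists_centralizer_smul_sylow hPK
      (coprime_card_of_isPGroup hP hKp) (Or.inl inferInstance) S Q2 (hS ▸ hPQ) hQ2
    have hcQ : MulAut.conj (c : Y) • Q = R2 := by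
      rw [hR2, ← hc, Sylow.coe_subgroup_smul, Coprime.map_conj_smul, K.coe_subtype, hS]
    obtain ⟨m, hm, hmc⟩ := hfac c ⟨c.2, hcP⟩
    have hmQ : MulAut.conj (c : Y) • Q = MulAut.conj m • Q := by
      conv_lhs => rw [show (c : Y) = m * (m⁻¹ * c) by group, ← Coprime.conj_smul_smul,
        Coprime.conj_smul_eq_self_of_mem hmc]
    intro s hs
    have h1 : m * s * m⁻¹ ∈ J := hR2J (by
      rw [← hcQ, hmQ, Coprime.mem_conj_smul_iff]
      simpa [mul_assoc] using hs)
    have hmJ : m ∈ J := ⟨Char.irr_le_inertia M φ hm, hMK hm⟩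
    have h2 : s ∈ J := by
      have := mul_mem (mul_mem (inv_mem hmJ) h1) hmJ
      simpa [mul_assoc] using this
    exact h2.1
  let φP : P →* MulAut M := (MulAut.conjNormal : Y →* MulAut M).comp P.subtype
  let φQ : Q →* MulAut M := (MulAut.conjNormal : Y →* MulAut M).comp Q.subtype
  have hle := fixed_of_fix φP φQ hP hQ (fun h => hKp (h.trans (Subgroup.card_dvd_of_le hMK))) hMq
    (fun t s => ⟨⟨(t : Y) * s * (t : Y)⁻¹, (Subgroup.mem_normalizer_iff.1 (hPQ t.2) s).1 s.2⟩, by
      simp only [φP, φQ, MonoidHom.comp_apply, Subgroup.coe_subtype, ← map_mul]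
      congr 1
      group⟩)
    (fun χ hχ s g => congrFun (hfix χ (fun t ht => funext fun x => hχ ⟨t, ht⟩ x) s s.2) g)
  rintro g ⟨hgM, hgP⟩
  have hg : (⟨g, hgM⟩ : M) ∈ fixedSub φP := fun t => Subtype.ext (by
    simp [φP, Subgroup.mem_centralizer_iff.1 hgP t t.2])
  rw [Subgroup.mem_centralizer_iff]
  intro s hs
  have := congrArg Subtype.val (hle hg ⟨s, hs⟩)
  simp [φQ] at this
  calc s * g = s * g * s⁻¹ * s := by group
    _ = g * s := by rw [this]

theorem inf_centralizer_le_normalizer_aux : ∀ (n : ℕ) (Y : Type u) [Group Y] [Fintype Y]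
    (K P Q : Subgroup Y) [K.Normal], Nat.card Y = n → IsPGroup p P → ¬ p ∣ Nat.card K →
    IsPSolvable q Y →
    (∀ θ : IrrCharacter K, (∀ t ∈ P, Char.conjFun K θ.1 t = θ.1) → ¬ q ∣ Char.degree θ) →
    Q ≤ K → IsPGroup q Q → ¬ q ∣ Q.relIndex K → P ≤ Subgroup.normalizer (Q : Set Y) →
    K ⊓ Subgroup.centralizer (P : Set Y) ≤ Subgroup.normalizer (Q : Set Y) := by
  intro n
  induction n using Nat.strong_induction_on with
  | _ n ih =>
  intro Y _ _ K P Q _ hn hP hKp hqs hyp hQK hQ hQrel hPQ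
  rcases eq_or_ne K ⊥ with rfl | hK
  · exact inf_le_left.trans bot_le
  obtain ⟨M, hMn, hMK, hM, hmin⟩ := Solvable.exists_minimal_normal hK
  haveI := hMn
  haveI : Group.IsNilpotent P := hP.isNilpotent
  set f := QuotientGroup.mk' M with hf
  haveI := Fintype.ofFinite (Y ⧸ M)
  haveI := Fintype.ofFinite K
  haveI := Fintype.ofFinite M
  haveI : (K.map f).Normal := Subgroup.Normal.map inferInstance f (QuotientGroup.mk'_surjective M)
  have hsurj := QuotientGroup.mk'_surjective M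
  have hlt : Nat.card (Y ⧸ M) < n := by
    rw [← hn, ← Subgroup.index_eq_card, ← Subgroup.card_mul_index M]
    exact lt_mul_left (Nat.pos_of_ne_zero Subgroup.index_ne_zero_of_finite)
      (M.one_lt_card_iff_ne_bot.2 hM)
  have hcQ : (Q.map f).comap f = Q ⊔ M := by rw [Subgroup.comap_map_eq, hf, QuotientGroup.ker_mk']
  have hcK : (K.map f).comap f = K := by
    rw [Subgroup.comap_map_eq, hf, QuotientGroup.ker_mk', sup_eq_left.2 hMK]
  have hQMK : Q ⊔ M ≤ K := sup_le hQK hMK
  have hQMrel : ¬ q ∣ (Q ⊔ M).relIndex K := fun h =>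
    hQrel (h.trans (Subgroup.relIndex_dvd_of_le_left K le_sup_left))
  have hIH := ih _ hlt (Y ⧸ M) (K.map f) (P.map f) (Q.map f) rfl (hP.map f)
    (fun h => hKp (h.trans (Subgroup.card_map_dvd K f))) (PCore.isPSolvable_quotient hqs M)
    (fun θ hθ => ?_) (Subgroup.map_mono hQK) (hQ.map f)
    (by rw [← hcQ, ← hcK, PCore.relIndex_comap_of_surjective f hsurj] at hQMrel; exact hQMrel)
    ((Subgroup.map_mono hPQ).trans (Subgroup.le_normalizer_map f))
  rotate_left
  · let g := f.subgroupMap K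
    have hg : Function.Surjective g := MonoidHom.subgroupMap_surjective f K
    let θ0 : IrrCharacter K := ⟨_, Char.IsIrrCharacter.comp_surjective θ.2 g hg⟩
    have hd : Char.degree θ0 = Char.degree θ := by
      apply Nat.cast_injective (R := ℂ)
      rw [← Char.apply_one_eq_degree, ← Char.apply_one_eq_degree]
      exact congrArg θ.1 (map_one g)
    rw [← hd]
    refine hyp θ0 fun t ht => funext fun x => ?_
    have h1 : g (MulAut.conjNormal t x) = MulAut.conjNormal (f t) (g x) :=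
      Subtype.ext (by
        show f (MulAut.conjNormal t x : K) = f t * f x * (f t)⁻¹
        rw [MulAut.conjNormal_apply, map_mul, map_mul, map_inv])
    show θ.1 (g (MulAut.conjNormal t x)) = θ.1 (g x)
    rw [h1]
    exact congrFun (hθ _ (Subgroup.mem_map_of_mem f ht)) (g x)
  have hN : ∀ x ∈ K ⊓ Subgroup.centralizer (P : Set Y),
      x ∈ Subgroup.normalizer ((Q ⊔ M : Subgroup Y) : Set Y) := by
    rintro x ⟨hxK, hxP⟩
    rw [← hcQ, ← Subgroup.comap_normalizer_eq_of_surjective _ hsurj]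
    refine hIH ⟨Subgroup.mem_map_of_mem f hxK, Subgroup.mem_centralizer_iff.2 ?_⟩
    rintro _ ⟨t, ht, rfl⟩
    rw [← map_mul, ← map_mul, Subgroup.mem_centralizer_iff.1 hxP t ht]
  rcases PCore.isPGroup_or_coprime_of_minimal_normal (p := q) hqs M hmin with hMq | hMq
  · have hQM : Q = Q ⊔ M :=
      eq_of_le_of_isPGroup le_sup_left hQMK (hQ.to_sup_of_normal_right hMq) hQrel
    intro x hx
    have := hN x hx
    rwa [← hQM] at this
  have hPM : P ≤ Subgroup.normalizer (M : Set Y) := by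
    rw [Subgroup.normalizer_eq_top_iff.2 hMn]; exact le_top
  have hPK1 : P ≤ Subgroup.normalizer ((Q ⊔ M : Subgroup Y) : Set Y) := by
    intro t ht
    refine Coprime.mem_normalizer_of_conj_smul_eq ?_
    rw [Subgroup.smul_sup, Coprime.conj_smul_eq_self_of_mem (hPQ ht),
      Coprime.conj_smul_eq_self_of_mem (hPM ht)]
  have hcop1 : (Nat.card P).Coprime (Nat.card (Q ⊔ M : Subgroup Y)) :=
    (coprime_card_of_isPGroup hP hKp).coprime_dvd_right (Subgroup.card_dvd_of_le hQMK)
  have hQrel1 : ¬ q ∣ Q.relIndex (Q ⊔ M) := fun h =>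
    hQrel (h.trans (Dvd.intro _ (Subgroup.relIndex_mul_relIndex Q (Q ⊔ M) K le_sup_left hQMK)))
  obtain ⟨S, hS⟩ := exists_sylow_of_relIndex le_sup_left hQ hQrel1
  have hfac : ∀ x ∈ K ⊓ Subgroup.centralizer (P : Set Y),
      ∃ m ∈ M, m ∈ Subgroup.centralizer (P : Set Y) ∧
        m⁻¹ * x ∈ Subgroup.normalizer (Q : Set Y) := by
    intro x hx
    have hxN := hN x hx
    have hQ'le : MulAut.conj x • Q ≤ Q ⊔ M :=
      (Subgroup.pointwise_smul_le_pointwise_smul_iff.2 le_sup_left).trans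
        (Coprime.conj_smul_eq_self_of_mem hxN).le
    have hQ'rel : ¬ q ∣ (MulAut.conj x • Q).relIndex (Q ⊔ M) := by
      conv => arg 1; arg 2; arg 2; rw [← Coprime.conj_smul_eq_self_of_mem hxN]
      rwa [Subgroup.relIndex_pointwise_smul]
    obtain ⟨S', hS'⟩ := exists_sylow_of_relIndex hQ'le
      (hQ.map (MulDistribMulAction.toMonoidEnd (MulAut Y) Y (MulAut.conj x))) hQ'rel
    have hPS' : P ≤ Subgroup.normalizer ((MulAut.conj x • Q : Subgroup Y) : Set Y) := by
      intro t ht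
      refine Coprime.mem_normalizer_of_conj_smul_eq ?_
      rw [Coprime.conj_smul_smul, Subgroup.mem_centralizer_iff.1 hx.2 t ht,
        ← Coprime.conj_smul_smul, Coprime.conj_smul_eq_self_of_mem (hPQ ht)]
    obtain ⟨c, hcP, hc⟩ := Coprime.exists_centralizer_smul_sylow hPK1 hcop1 (Or.inl inferInstance)
      S S' (by rw [hS]; exact hPQ) (by rw [hS']; exact hPS')
    have hcQ' : MulAut.conj (c : Y) • Q = MulAut.conj x • Q := by
      rw [← hS', ← hc, Sylow.coe_subgroup_smul, Coprime.map_conj_smul, Subgroup.coe_subtype, hS]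
    have h1 : f (c : Y) ∈ (Q ⊓ Subgroup.centralizer (P : Set Y)).map f := by
      rw [Coprime.map_mk'_inf_centralizer M hPQ
        ((coprime_card_of_isPGroup hP hKp).coprime_dvd_right (Subgroup.card_dvd_of_le hQK))
        (Or.inl inferInstance)]
      have h2 : f (c : Y) ∈ ((Q ⊔ M : Subgroup Y) ⊓ Subgroup.centralizer (P : Set Y)).map f :=
        Subgroup.mem_map_of_mem f ⟨c.2, hcP⟩
      rw [Coprime.map_mk'_inf_centralizer M hPK1 hcop1 (Or.inl inferInstance)] at h2
      have hbot : M.map f = ⊥ := by rw [hf, Subgroup.map_eq_bot_iff, QuotientGroup.ker_mk']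
      have h3 : (Q ⊔ M).map f = Q.map f := by rw [Subgroup.map_sup, hbot, sup_bot_eq]
      rwa [h3] at h2
    obtain ⟨e, ⟨heQ, heP⟩, hec⟩ := h1
    refine ⟨(c : Y) * e⁻¹, ?_, mul_mem hcP (inv_mem heP), ?_⟩
    · rw [← QuotientGroup.eq_one_iff]
      show f ((c : Y) * e⁻¹) = 1
      rw [map_mul, map_inv, hec, mul_inv_cancel]
    · refine Coprime.mem_normalizer_of_conj_smul_eq ?_
      rw [← Coprime.conj_smul_smul, ← hcQ', Coprime.conj_smul_smul,
        show ((c : Y) * e⁻¹)⁻¹ * c = e by group,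
        Coprime.conj_smul_eq_self_of_mem (Subgroup.le_normalizer heQ)]
  have hMQ := inf_centralizer_le_of_qPrime K P Q M hP hKp hyp hQK hQ hQrel hPQ hMK
    (hq.out.coprime_iff_not_dvd.1 hMq.symm) fun x hx => by
      obtain ⟨m, hm, -, hm'⟩ := hfac x hx
      exact ⟨m, hm, hm'⟩
  intro x hx
  obtain ⟨m, hm, hmP, hm'⟩ := hfac x hx
  rw [show x = m * (m⁻¹ * x) by group]
  refine mul_mem ?_ hm'
  exact Subgroup.centralizer_le_normalizer _ (hMQ ⟨hm, hmP⟩)

/-- The fixed points of `P` normalise every `P`-invariant Sylow `q`-subgroup of `K`. -/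
theorem inf_centralizer_le_normalizer (hqs : IsPSolvable q Y) (K P Q : Subgroup Y) [K.Normal]
    (hP : IsPGroup p P) (hKp : ¬ p ∣ Nat.card K)
    (hyp : ∀ θ : IrrCharacter K, (∀ t ∈ P, Char.conjFun K θ.1 t = θ.1) → ¬ q ∣ Char.degree θ)
    (hQK : Q ≤ K) (hQ : IsPGroup q Q) (hQrel : ¬ q ∣ Q.relIndex K)
    (hPQ : P ≤ Subgroup.normalizer (Q : Set Y)) :
    K ⊓ Subgroup.centralizer (P : Set Y) ≤ Subgroup.normalizer (Q : Set Y) :=
  inf_centralizer_le_normalizer_aux _ Y K P Q rfl hP hKp hqs hyp hQK hQ hQrel hPQ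

end Cfsg.Agent.BlockPLength
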