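import Cfsg.Agent.Lib.BlockPLength.Extend
import Cfsg.Agent.Lib.PCore.HallHigman
import Cfsg.Agent.Lib.PCore.PSolvable
import Cfsg.Agent.Lib.BlockCount.Criterion
import Cfsg.Agent.Lib.Transfer.Tate

/-!
# Kernels of the characters of degree prime to `p` in the principal block of a `p`-solvable group
-/

namespace Cfsg.Agent.BlockPLength

open scoped ComplexConjugate Classical
open Cfsg

set_option linter.style.haveILetI false

universe u

variable {G : Type u} [Group G] [Fintype G] {p : ℕ} [hp : Fact p.Prime] {M : Ideal AlgInt}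

/-- For a `p`-solvable group the characters trivial on `O_{p'}(G)` lie in the principal block. -/
theorem mem_principalBlock_of_trivOn (hM : IsPModular p M) (hs : IsPSolvable p G)
    {χ : IrrCharacter G} (h : Char.TrivOn (pPrimeCore p G) χ.1) : χ ∈ principalBlock M G := by
  haveI := Fintype.ofFinite (G ⧸ pPrimeCore p G)
  obtain ⟨ψ, hψ⟩ := Char.exists_descend (pPrimeCore p G) χ h
  have : χ = Char.inflate (pPrimeCore p G) ψ :=
    Subtype.ext (funext fun g => by rw [Char.inflate_apply, hψ])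
  rw [this]
  exact BlockCount.inflate_mem_principalBlock hM _ PCore.not_dvd_card_pPrimeCore
    (BlockCount.mem_principalBlock_of_centralizer_le hM PCore.isPGroup_pCore
      (PCore.centralizer_pCore_le (PCore.isPSolvable_quotient hs _)
        PCore.pPrimeCore_quotient_self_eq_bot) ψ)

omit hp in
/-- The pairing of a character with a linear character of a subgroup is invariant under shifting
by an element of the kernel. -/
theorem linear_eq_one_of_trivOn {K : Subgroup G} [K.Normal] {χ : IrrCharacter G}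
    (hK : Char.TrivOn K χ.1) (H : Subgroup G) [Fintype H] (lam : H →* ℂ)
    (hne : classInner (Char.resFun H χ.1) (lam : H → ℂ) ≠ 0) {u : H} (hu : (u : G) ∈ K) :
    lam u = 1 := by
  obtain ⟨ψ, hψ⟩ := Char.exists_descend K χ hK
  have hχ : ∀ x : H, χ.1 ((x * u : H) : G) = χ.1 (x : G) := fun x => by
    rw [← hψ, ← hψ, Subgroup.coe_mul, QuotientGroup.mk_mul, (QuotientGroup.eq_one_iff _).2 hu,
      mul_one]
  have h1 : conj (lam u) * classInner (Char.resFun H χ.1) (lam : H → ℂ) =
      classInner (Char.resFun H χ.1) (lam : H → ℂ) := by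
    simp only [classInner, Finset.mul_sum]
    refine Fintype.sum_equiv (Equiv.mulRight u) _ _ fun x => ?_
    simp only [Equiv.coe_mulRight, Char.resFun_apply, hχ, map_mul]
    ring
  have h2 : conj (lam u) = 1 := (mul_eq_right₀ hne).1 h1
  rw [← Complex.conj_conj (lam u), h2, map_one]

omit hp in
/-- If the linear character is trivial on a normal subgroup, so are its constituents. -/
theorem trivOn_of_linear {K : Subgroup G} [K.Normal] {χ : IrrCharacter G} (H : Subgroup G)
    [Fintype H] (hKH : K ≤ H) (lam : H →* ℂ) (hlam : ∀ x : H, (x : G) ∈ K → lam x = 1)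
    (hne : classInner (Char.resFun H χ.1) (lam : H → ℂ) ≠ 0) : Char.TrivOn K χ.1 := by
  haveI := Fintype.ofFinite K
  by_contra h
  refine hne ?_
  have hshift : ∀ k : K, classInner (Char.resFun H χ.1) (lam : H → ℂ) =
      (Nat.card H : ℂ)⁻¹ * ∑ x : H, χ.1 ((x : G) * k) * conj (lam x) := by
    intro k
    simp only [classInner]
    congr 1
    refine Fintype.sum_equiv (Equiv.mulRight (⟨k, hKH k.2⟩⁻¹ : H)) _ _ fun x => ?_
    simp only [Equiv.coe_mulRight, Char.resFun_apply, map_mul, map_inv,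
      hlam ⟨k, hKH k.2⟩ k.2, inv_one, mul_one]
    simp [mul_assoc]
  have hsum : (Nat.card K : ℂ) * classInner (Char.resFun H χ.1) (lam : H → ℂ) = 0 := by
    have h1 : ∑ k : K, classInner (Char.resFun H χ.1) (lam : H → ℂ) =
        ∑ k : K, (Nat.card H : ℂ)⁻¹ * ∑ x : H, χ.1 ((x : G) * k) * conj (lam x) :=
      Finset.sum_congr rfl fun k _ => hshift k
    rw [Finset.sum_const, Finset.card_univ, nsmul_eq_mul, ← Nat.card_eq_fintype_card] at h1
    rw [h1, ← Finset.mul_sum, Finset.sum_comm]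
    refine mul_eq_zero_of_right _ (Finset.sum_eq_zero fun x _ => ?_)
    rw [← Finset.sum_mul, Char.sum_coset_eq_zero_of_not_trivOn K χ h, zero_mul]
  exact (mul_eq_zero.1 hsum).resolve_left (Nat.cast_ne_zero.2 Nat.card_pos.ne')

/-- A linear character of `P` occurs in a principal block character of degree prime to `p`. -/
theorem exists_pPrime_over (hM : IsPModular p M) (hs : IsPSolvable p G) (P : Sylow p G)
    (μ : (P : Subgroup G) →* ℂ) :
    ∃ (H : Subgroup G) (hPH : (P : Subgroup G) ≤ H) (_ : Fintype H) (lam : H →* ℂ)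
      (χ : IrrCharacter G), χ ∈ principalBlock M G ∧ ¬ p ∣ charDegree χ.1 ∧
      (∀ v : (P : Subgroup G), lam ⟨v, hPH v.2⟩ = μ v) ∧
      classInner (Char.resFun H χ.1) (lam : H → ℂ) ≠ 0 := by
  set A := pPrimeCore p G
  set H := A ⊔ (P : Subgroup G) with hH
  have hPH : (P : Subgroup G) ≤ H := le_sup_right
  haveI := Fintype.ofFinite H
  let i : (P : Subgroup G) →* H ⧸ A.subgroupOf H :=
    (QuotientGroup.mk' (A.subgroupOf H)).comp (Subgroup.inclusion hPH)
  have hi : Function.Bijective i := by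
    refine ⟨(injective_iff_map_eq_one i).2 fun v hv => ?_, fun y => ?_⟩
    · have hvA : (v : G) ∈ A := (QuotientGroup.eq_one_iff (Subgroup.inclusion hPH v)).1 hv
      obtain ⟨k, hk⟩ := IsPGroup.iff_orderOf.1 P.isPGroup' v
      have hd : orderOf v ∣ Nat.card A := by
        rw [← Subgroup.orderOf_coe, ← Subgroup.orderOf_mk (v : G) hvA]
        exact orderOf_dvd_natCard _
      rw [← orderOf_eq_one_iff]
      rw [hk] at hd ⊢
      exact Nat.eq_one_of_dvd_coprimes (PCore.coprime_card_pPrimeCore.symm.pow_left k) dvd_rfl hd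
    · obtain ⟨⟨x, hx⟩, rfl⟩ := QuotientGroup.mk_surjective y
      obtain ⟨a, ha, v, hv, rfl⟩ := Subgroup.mem_sup_of_normal_left.1 hx
      refine ⟨⟨v, hv⟩, ?_⟩
      simp only [i, MonoidHom.comp_apply, QuotientGroup.mk'_apply]
      rw [QuotientGroup.eq, Subgroup.mem_subgroupOf]
      simp only [Subgroup.coe_mul, Subgroup.coe_inv, Subgroup.coe_inclusion, ← mul_assoc]
      simpa using (inferInstance : A.Normal).conj_mem a ha v⁻¹
  let e := MulEquiv.ofBijective i hi
  let lam : H →* ℂ := μ.comp (e.symm.toMonoidHom.comp (QuotientGroup.mk' (A.subgroupOf H)))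
  have hlamA : ∀ x : H, (x : G) ∈ A → lam x = 1 := fun x hx => by
    simp [lam, (QuotientGroup.eq_one_iff (N := A.subgroupOf H) x).2 hx]
  have hlamP : ∀ v : (P : Subgroup G), lam ⟨v, hPH v.2⟩ = μ v := fun v => by
    show μ (e.symm (i v)) = μ v
    rw [show i v = e v from rfl, e.symm_apply_apply]
  obtain ⟨k, hk, hk', -, hdeg⟩ := BlockCount.exists_multiplicity (G := G) (H := H)
  let θ : IrrCharacter H := ⟨_, Char.isIrrCharacter_of_monoidHom lam⟩
  have hθ1 : charDegree θ.1 = 1 := by simp [θ, charDegree]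
  obtain ⟨χ, hχ⟩ : ∃ χ : IrrCharacter G, ¬ p ∣ k χ θ * charDegree χ.1 := by
    by_contra! hall
    refine P.not_dvd_index ((?_ : p ∣ H.index).trans (Subgroup.index_dvd_of_le hPH))
    have h1 := hdeg θ
    rw [hθ1, mul_one] at h1
    exact h1 ▸ Finset.dvd_sum fun χ _ => hall χ
  have hne : classInner (Char.resFun H χ.1) (lam : H → ℂ) ≠ 0 := by
    rw [show classInner (Char.resFun H χ.1) (lam : H → ℂ) = k χ θ from hk χ θ]
    exact Nat.cast_ne_zero.2 fun h0 => hχ (by rw [h0, zero_mul]; exact dvd_zero p)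
  exact ⟨H, hPH, ‹_›, lam, χ,
    mem_principalBlock_of_trivOn hM hs (trivOn_of_linear H le_sup_left lam hlamA hne),
    fun h => hχ (h.mul_left _), hlamP, hne⟩

/-- A normal subgroup in the kernel of all principal block characters of degree prime to `p`
meets `P` inside `P'`. -/
theorem inf_sylow_le_commutator (hM : IsPModular p M) (hs : IsPSolvable p G) (P : Sylow p G)
    (N : Subgroup G) [N.Normal]
    (h : ∀ χ ∈ principalBlock M G, ¬ p ∣ charDegree χ.1 → Char.TrivOn N χ.1) :
    N ⊓ (P : Subgroup G) ≤ (commutator (P : Subgroup G)).map (P : Subgroup G).subtype := by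
  rintro u ⟨huN, huP⟩
  refine ⟨⟨u, huP⟩, commutator_mem_of_linear fun μ => ?_, rfl⟩
  obtain ⟨H, hPH, _, lam, χ, hχ, hd, hlam, hne⟩ := exists_pPrime_over hM hs P μ
  rw [← hlam ⟨u, huP⟩]
  exact linear_eq_one_of_trivOn (h χ hχ hd) H lam hne huN

/-- The intersection of the kernels of the principal block characters of degree prime to `p`:
it meets `P` inside the Frattini subgroup and the quotient has trivial `p'`-core. -/
theorem pPrimeCore_quotient_eq_bot (hM : IsPModular p M) (hs : IsPSolvable p G) (P : Sylow p G)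
    (N : Subgroup G) [N.Normal]
    (h : ∀ χ ∈ principalBlock M G, ¬ p ∣ charDegree χ.1 → Char.TrivOn N χ.1)
    (hA : pPrimeCore p G ≤ N) : pPrimeCore p (G ⧸ N) = ⊥ := by
  set S := (pPrimeCore p (G ⧸ N)).comap (QuotientGroup.mk' N)
  suffices hSN : S ≤ N by
    rw [eq_bot_iff]
    intro y hy
    obtain ⟨x, rfl⟩ := QuotientGroup.mk_surjective y
    exact (QuotientGroup.eq_one_iff x).2 (hSN hy)
  have hNS : N ≤ S := fun x hx => by
    show QuotientGroup.mk' N x ∈ pPrimeCore p (G ⧸ N)
    rw [QuotientGroup.mk'_apply, (QuotientGroup.eq_one_iff x).2 hx]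
    exact one_mem _
  have hpel : ∀ x ∈ S, (∃ k, orderOf x = p ^ k) → x ∈ N := by
    rintro x hx ⟨k, hk⟩
    rw [← QuotientGroup.eq_one_iff, ← orderOf_eq_one_iff]
    have h1 : orderOf (x : G ⧸ N) ∣ p ^ k := hk ▸ orderOf_map_dvd (QuotientGroup.mk' N) x
    have h2 : orderOf (x : G ⧸ N) ∣ Nat.card (pPrimeCore p (G ⧸ N)) := by
      have hx' : (x : G ⧸ N) ∈ pPrimeCore p (G ⧸ N) := hx
      rw [← Subgroup.orderOf_mk (x : G ⧸ N) hx']
      exact orderOf_dvd_natCard _
    exact Nat.eq_one_of_dvd_coprimes (PCore.coprime_card_pPrimeCore.symm.pow_left k) h1 h2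
  have hSP : S ⊓ (P : Subgroup G) ≤ (frattini (P : Subgroup G)).map (P : Subgroup G).subtype := by
    rintro x ⟨hxS, hxP⟩
    obtain ⟨k, hk⟩ := IsPGroup.iff_orderOf.1 P.isPGroup' ⟨x, hxP⟩
    rw [Subgroup.orderOf_mk] at hk
    exact Subgroup.map_mono (PGroup.commutator_le_frattini P.isPGroup')
      (inf_sylow_le_commutator hM hs P N h ⟨hpel x hxS ⟨k, hk⟩, hxP⟩)
  obtain ⟨Q, K, hK, hc⟩ := Transfer.hasNormalPComplement_normal_of_le_frattini P S hSP
  have hcop : (Nat.card K).Coprime p := by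
    rw [← hc.index_eq_card]
    exact (hp.out.coprime_iff_not_dvd.2 Q.not_dvd_index).symm
  have hKN : K.map S.subtype ≤ N := (Subgroup.map_mono (PCore.le_pPrimeCore hcop)).trans
    (((PCore.map_pPrimeCore_subtype_of_normal S).le.trans inf_le_left).trans hA)
  intro x hx
  obtain ⟨⟨a, b⟩, hab⟩ := hc.2 ⟨x, hx⟩
  have hb : ((b : S) : G) ∈ N := by
    obtain ⟨k, hk⟩ := IsPGroup.iff_orderOf.1 Q.isPGroup' b
    exact hpel _ (b : S).2 ⟨k, by rw [Subgroup.orderOf_coe, Subgroup.orderOf_coe, hk]⟩
  have h2 : x = ((a : S) : G) * ((b : S) : G) := (congrArg Subtype.val hab).symm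
  rw [h2]
  exact mul_mem (hKN ⟨a, a.2, rfl⟩) hb

end Cfsg.Agent.BlockPLength
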