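import Cfsg.Agent.Lib.BlockPLength.InvariantSylow
import Cfsg.Agent.Lib.BlockPLength.Kernel
import Cfsg.Agent.Lib.Char.FixedConstituent
import Cfsg.Agent.Lib.Clifford.CoprimeExtension

/-!
# Two primes in the degrees of a group that is solvable for both

If every irreducible character of degree prime to `p` that is trivial on `O_{p'}(G)` has degree
prime to `q`, then `q` does not divide the index of `O_{p'}(G)`.
-/

namespace Cfsg.Agent.BlockPLength

open Cfsg
open scoped Classical Pointwise ComplexConjugate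

set_option linter.style.haveILetI false

universe u

variable {p q : ℕ} [hp : Fact p.Prime] [hq : Fact q.Prime]

/-- Transitivity of the relation "is a constituent of the restriction". -/
theorem constituent_trans {H : Type u} [Group H] [Fintype H] {χ : H → ℂ} (hχ : IsCharacter H χ)
    (N : Subgroup H) [Fintype N] (η : IrrCharacter H) (θ : IrrCharacter N)
    (h1 : classInner χ η.1 ≠ 0) (h2 : classInner (Char.resFun N η.1) θ.1 ≠ 0) :
    classInner (Char.resFun N χ) θ.1 ≠ 0 := by
  have h := Char.classInner_ne_zero_of_common hχ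
    (Char.isCharacter_indFun N (Char.irr_isCharacter θ)) η h1 (by
      rw [Char.classInner_indFun N _ (Char.IsCharacter.isClassFunction (Char.irr_isCharacter η)),
        ← Char.conj_classInner, ne_eq, map_eq_zero]
      exact h2)
  rwa [Char.classInner_indFun_right N _ (Char.IsCharacter.isClassFunction hχ)] at h

variable {H : Type u} [Group H] [Fintype H]

omit hq in
/-- An irreducible constituent of an induced character with degree prime to `p`. -/
theorem exists_pPrime_induced (X : Subgroup H) [Fintype X] (η : IrrCharacter X)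
    (hi : ¬ p ∣ X.index) (hd : ¬ p ∣ charDegree η.1) :
    ∃ χ : IrrCharacter H, ¬ p ∣ charDegree χ.1 ∧ classInner (Char.resFun X χ.1) η.1 ≠ 0 := by
  obtain ⟨k, hk, -, -, hdeg⟩ := BlockCount.exists_multiplicity (G := H) (H := X)
  obtain ⟨χ, hχ⟩ : ∃ χ : IrrCharacter H, ¬ p ∣ k χ η * charDegree χ.1 := by
    by_contra! hall
    exact hp.out.not_dvd_mul hi hd (hdeg η ▸ Finset.dvd_sum fun χ _ => hall χ)
  refine ⟨χ, fun h => hχ (h.mul_left _), ?_⟩
  rw [hk]
  exact Nat.cast_ne_zero.2 fun h0 => hχ (by rw [h0, zero_mul]; exact dvd_zero p)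

omit hp hq in
theorem degree_and_orbit_dvd (N : Subgroup H) [N.Normal] [Fintype N] (χ : IrrCharacter H)
    (θ : IrrCharacter N) (h : classInner (Char.resFun N χ.1) θ.1 ≠ 0) :
    Char.degree θ ∣ Char.degree χ ∧ (Char.inertia N θ.1).index ∣ Char.degree χ := by
  obtain ⟨j, hj⟩ := Char.IsCharacter.exists_nat_classInner
    (Char.IsCharacter.restrict (Char.irr_isCharacter χ) N) (Char.irr_isCharacter θ)
  have h1 := Char.apply_one_eq_mul_card_orbit N χ θ h
  rw [show classInner (Char.resFun N χ.1) θ.1 = j from hj, Char.apply_one_eq_degree,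
    Char.apply_one_eq_degree, ← Nat.cast_mul, ← Nat.cast_mul, Nat.cast_inj,
    ← Char.index_inertia] at h1
  exact h1 ▸ ⟨(dvd_mul_left _ _).mul_left _, (dvd_mul_right _ _).mul_left _⟩

omit hq in
/-- Fixed characters of a normal `p'`-subgroup have `q'`-degree. -/
theorem not_dvd_degree_of_fixed (K : Subgroup H) [K.Normal] [Fintype K] (P : Subgroup H)
    (hP : IsPGroup p P) (hKp : ¬ p ∣ Nat.card K) (hidx : ¬ p ∣ (K ⊔ P).index)
    (hyp : ∀ χ : IrrCharacter H, ¬ p ∣ charDegree χ.1 → ¬ q ∣ charDegree χ.1)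
    (θ : IrrCharacter K) (hθ : ∀ t ∈ P, Char.conjFun K θ.1 t = θ.1) : ¬ q ∣ Char.degree θ := by
  set X := K ⊔ P
  haveI := Fintype.ofFinite X
  have hKX : K ≤ X := le_sup_left
  haveI := Fintype.ofFinite (K.subgroupOf X)
  let e := Subgroup.subgroupOfEquivOfLe hKX
  let θ' : IrrCharacter (K.subgroupOf X) :=
    ⟨_, Char.IsIrrCharacter.comp_surjective θ.2 e.toMonoidHom e.surjective⟩
  have hX : X ≤ Char.inertia K θ.1 := sup_le (Char.irr_le_inertia K θ) hθ
  have hinv : ∀ g : X, Char.conjFun (K.subgroupOf X) θ'.1 g = θ'.1 := fun g => funext fun n => by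
    have hconj : e (MulAut.conjNormal g n) = MulAut.conjNormal (g : H) (e n) :=
      Subtype.ext (by simp [e])
    show θ.1 (e (MulAut.conjNormal g n)) = θ.1 (e n)
    rw [hconj]
    exact congrFun (hX g.2) (e n)
  have hco : Nat.Coprime (K.subgroupOf X).index (Nat.card (K.subgroupOf X)) := by
    obtain ⟨j, hj⟩ := hP.exists_card_eq
    have h1 : (K.subgroupOf X).index ∣ p ^ j := by
      rw [← hj]
      show K.relIndex (K ⊔ P) ∣ _
      rw [Subgroup.relIndex_sup_left]
      exact Subgroup.relIndex_dvd_card K P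
    rw [Nat.card_congr e.toEquiv]
    exact Nat.Coprime.coprime_dvd_left h1 ((hp.out.coprime_iff_not_dvd.2 hKp).pow_left j)
  obtain ⟨η, ⟨hη, -⟩, -⟩ := Clifford.existsUnique_extension_of_coprime_card θ' hinv hco
  have hd : charDegree η.1 = charDegree θ'.1 := by
    apply Nat.cast_injective (R := ℂ)
    rw [Char.charDegree_cast, Char.charDegree_cast]
    exact hη 1
  obtain ⟨χ, hχd, hχ⟩ := exists_pPrime_induced X η hidx (fun h => hKp (by
    rw [hd] at h
    exact (h.trans (Char.charDegree_dvd_card θ')).trans (Nat.card_congr e.toEquiv).dvd))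
  have h2 : classInner (Char.resFun (K.subgroupOf X) η.1) θ'.1 ≠ 0 := by
    rw [show Char.resFun (K.subgroupOf X) η.1 = θ'.1 from funext hη,
      Char.classInner_irr_self θ'.2]
    exact one_ne_zero
  have h3 := constituent_trans (Char.IsCharacter.restrict (Char.irr_isCharacter χ) X)
    (K.subgroupOf X) η θ' hχ h2
  have h4 : classInner (Char.resFun K χ.1) θ.1 ≠ 0 := by
    rw [← Char.classInner_comp_mulEquiv e]
    exact h3
  exact fun h => hyp χ hχd (Char.charDegree_eq_degree χ ▸ h.trans (degree_and_orbit_dvd K χ θ h4).1)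

omit hq in
/-- For a linear character of `P` its restriction to a normal `p`-subgroup has inertia group of
`q'`-index. -/
theorem not_dvd_index_inertia (P : Sylow p H) (U : Subgroup H) [U.Normal] [Fintype U]
    (hUP : U ≤ (P : Subgroup H))
    (hyp : ∀ χ : IrrCharacter H, ¬ p ∣ charDegree χ.1 → ¬ q ∣ charDegree χ.1)
    (μ : (P : Subgroup H) →* ℂ) :
    ¬ q ∣ (Char.inertia U (fun u : U => μ (Subgroup.inclusion hUP u))).index ∧
      (P : Subgroup H) ≤ Char.inertia U (fun u : U => μ (Subgroup.inclusion hUP u)) := by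
  haveI := Fintype.ofFinite (P : Subgroup H)
  let μi : IrrCharacter (P : Subgroup H) := ⟨_, Char.isIrrCharacter_of_monoidHom μ⟩
  let lam : IrrCharacter U :=
    ⟨_, Char.isIrrCharacter_of_monoidHom (μ.comp (Subgroup.inclusion hUP))⟩
  obtain ⟨χ, hχd, hχ⟩ := exists_pPrime_induced (P : Subgroup H) μi P.not_dvd_index
    (by simp [μi, charDegree, hp.out.not_dvd_one])
  haveI := Fintype.ofFinite (U.subgroupOf (P : Subgroup H))
  let e := Subgroup.subgroupOfEquivOfLe hUP
  let lam' : IrrCharacter (U.subgroupOf (P : Subgroup H)) :=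
    ⟨_, Char.IsIrrCharacter.comp_surjective lam.2 e.toMonoidHom e.surjective⟩
  have h2 : classInner (Char.resFun (U.subgroupOf (P : Subgroup H)) μi.1) lam'.1 ≠ 0 := by
    rw [show Char.resFun (U.subgroupOf (P : Subgroup H)) μi.1 = lam'.1 from rfl,
      Char.classInner_irr_self lam'.2]
    exact one_ne_zero
  have h3 := constituent_trans (Char.IsCharacter.restrict (Char.irr_isCharacter χ) _)
    (U.subgroupOf (P : Subgroup H)) μi lam' hχ h2
  have h4 : classInner (Char.resFun U χ.1) lam.1 ≠ 0 := by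
    rw [← Char.classInner_comp_mulEquiv e]
    exact h3
  refine ⟨fun h => hyp χ hχd
    (Char.charDegree_eq_degree χ ▸ h.trans (degree_and_orbit_dvd U χ lam h4).2), fun t ht => ?_⟩
  refine funext fun u => ?_
  show μ (Subgroup.inclusion hUP (MulAut.conjNormal t u)) = μ (Subgroup.inclusion hUP u)
  rw [show Subgroup.inclusion hUP (MulAut.conjNormal t u) =
    ⟨t, ht⟩ * Subgroup.inclusion hUP u * ⟨t, ht⟩⁻¹ from Subtype.ext (by simp),
    map_mul, map_mul, mul_right_comm, ← map_mul, mul_inv_cancel, map_one, one_mul]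

/-- A normal subgroup `R` with `q`-part acting trivially on `O_p` modulo `P'` has trivial
`q`-part. -/
theorem eq_bot_of_commutator_le (hps : IsPSolvable p H) (hpq : p ≠ q)
    (hcore : pPrimeCore p H = ⊥) (P : Sylow p H) (R Q : Subgroup H)
    (hUR : pCore p H ≤ R) (hPR : (P : Subgroup H) ≤ Subgroup.normalizer (R : Set H))
    (hQR : Q ≤ R) (hQ : IsPGroup q Q) (hQrel : ¬ q ∣ Q.relIndex R)
    (hRUQ : R ≤ pCore p H ⊔ Q)
    (hcomm : ∀ x ∈ R, ∀ u ∈ pCore p H, x * u * x⁻¹ * u⁻¹ ∈
      (commutator (P : Subgroup H)).map (P : Subgroup H).subtype) : Q = ⊥ := by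
  set U := pCore p H
  set W := U ⊓ (commutator (P : Subgroup H)).map (P : Subgroup H).subtype
  have hUP : U ≤ (P : Subgroup H) := PCore.pCore_le_sylow P
  have hWP : W ≤ (P : Subgroup H) := inf_le_left.trans hUP
  have hUn : ∀ g, g ∈ Subgroup.normalizer (U : Set H) := fun g =>
    (Subgroup.normalizer_eq_top_iff.2 (inferInstance : U.Normal)).ge (Subgroup.mem_top g)
  -- `W` is normalised by `P` and `R`
  have hWR : ∀ x ∈ R, ∀ w ∈ W, x * w * x⁻¹ ∈ W := fun x hx w hw => by
    refine ⟨(inferInstance : U.Normal).conj_mem w hw.1 x, ?_⟩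
    have := mul_mem (hcomm x hx w hw.1) hw.2
    simpa [mul_assoc] using this
  have hRW : R ≤ Subgroup.normalizer (W : Set H) := fun x hx => by
    refine Subgroup.mem_normalizer_iff.2 fun w => ⟨hWR x hx w, fun h => ?_⟩
    have := hWR x⁻¹ (inv_mem hx) _ h
    simpa [mul_assoc] using this
  have hPW : (P : Subgroup H) ≤ Subgroup.normalizer (W : Set H) := by
    refine Coprime.le_normalizer_inf_of_le (fun g _ => hUn g) ?_
    have h1 := Subgroup.le_normalizer_map (H := commutator (P : Subgroup H))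
      (P : Subgroup H).subtype
    rw [Subgroup.normalizer_eq_top_iff.2 (inferInstance : (commutator (P : Subgroup H)).Normal),
      ← MonoidHom.range_eq_map, Subgroup.range_subtype] at h1
    exact h1
  set N := W ⊔ Q
  set X := R ⊔ (P : Subgroup H)
  have hNR : N ≤ R := sup_le (inf_le_left.trans hUR) hQR
  -- conjugates of `Q` by elements of `R` lie in `N`
  have hconjR : ∀ r ∈ R, ∀ s ∈ Q, r * s * r⁻¹ ∈ N := by
    intro r hr s hs
    obtain ⟨u, hu, t, ht, rfl⟩ := Subgroup.mem_sup_of_normal_left.1 (hRUQ hr)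
    have hs' : t * s * t⁻¹ ∈ Q := mul_mem (mul_mem ht hs) (inv_mem ht)
    have hw : u * (t * s * t⁻¹) * u⁻¹ * (t * s * t⁻¹)⁻¹ ∈ W := by
      refine ⟨?_, ?_⟩
      · rw [mul_assoc u (t * s * t⁻¹) u⁻¹, mul_assoc u]
        exact mul_mem hu ((inferInstance : U.Normal).conj_mem _ (inv_mem hu) _)
      · have := inv_mem (hcomm _ (hQR hs') u hu)
        simpa [mul_assoc] using this
    have := mul_mem (Subgroup.mem_sup_left (T := Q) hw) (Subgroup.mem_sup_right (S := W) hs')
    simpa [mul_assoc] using this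
  have hXN : X ≤ Subgroup.normalizer (N : Set H) := by
    have key : ∀ g : H, g ∈ Subgroup.normalizer (W : Set H) → (∀ s ∈ Q, g * s * g⁻¹ ∈ N) →
        g ∈ Subgroup.normalizer (N : Set H) := by
      intro g hgW hgQ
      refine Coprime.mem_normalizer_of_conj_smul_eq ?_
      refine Subgroup.eq_of_le_of_card_ge ?_ (le_of_eq ?_)
      · rw [Subgroup.smul_sup, Coprime.conj_smul_eq_self_of_mem hgW]
        refine sup_le le_sup_left fun y hy => ?_
        rw [Coprime.mem_conj_smul_iff] at hy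
        have := hgQ _ hy
        simpa [mul_assoc] using this
      · exact Nat.card_congr (Subgroup.equivSMul (MulAut.conj g) N).toEquiv
    refine sup_le (fun r hr => key r (hRW hr) (hconjR r hr)) fun t ht => key t (hPW ht) ?_
    obtain ⟨S, hS⟩ := exists_sylow_of_relIndex hQR hQ hQrel
    obtain ⟨k, hk, hkt⟩ := Coprime.exists_mem_conj_sylow_eq S (hPR ht)
    rw [hS] at hkt
    intro s hs
    have h1 : t * s * t⁻¹ ∈ MulAut.conj k • Q := by
      rw [hkt, Coprime.mem_conj_smul_iff]
      simpa [mul_assoc] using hs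
    rw [Coprime.mem_conj_smul_iff] at h1
    have := hconjR k hk _ h1
    simpa [mul_assoc] using this
  have hNX : N ≤ X := hNR.trans le_sup_left
  have hPX : (P : Subgroup H) ≤ X := le_sup_right
  haveI : (N.subgroupOf X).Normal := (Subgroup.normal_subgroupOf_iff_le_normalizer hNX).2 hXN
  let PX : Sylow p X := P.subtype hPX
  have hTate : N.subgroupOf X ⊓ (PX : Subgroup X) ≤
      (frattini (PX : Subgroup X)).map (PX : Subgroup X).subtype := by
    rintro x ⟨hxN, hxP⟩
    have hWQ : Q ≤ Subgroup.normalizer (W : Set H) := hQR.trans hRW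
    obtain ⟨w, hw, s, hs, hws⟩ : ∃ w ∈ W, ∃ s ∈ Q, w * s = (x : H) := by
      have := Subgroup.coe_mul_of_right_le_normalizer_left W Q hWQ
      have hxN' : (x : H) ∈ ((W : Set H) * (Q : Set H)) := by rw [← this]; exact hxN
      exact Set.mem_mul.1 hxN'
    have hsP : s ∈ (P : Subgroup H) := by
      rw [show s = w⁻¹ * (x : H) by rw [← hws, inv_mul_cancel_left]]
      exact mul_mem (inv_mem (hWP hw)) hxP
    have hs1 : s = 1 := by
      have := (IsPGroup.disjoint_of_ne p q hpq _ _ P.isPGroup' hQ).le_bot ⟨hsP, hs⟩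
      simpa using this
    rw [hs1, mul_one] at hws
    obtain ⟨v, hv, hvw⟩ := hw.2
    let i : (P : Subgroup H) ≃* (PX : Subgroup X) :=
      (Subgroup.subgroupOfEquivOfLe hPX).symm
    refine ⟨i v, ?_, Subtype.ext ?_⟩
    · exact frattini_le_comap_frattini_of_surjective (φ := i.toMonoidHom) i.surjective
        (PGroup.commutator_le_frattini P.isPGroup' hv)
    · rw [← hws, ← hvw]
      rfl
  obtain ⟨S, K₀, hK₀, hc⟩ :=
    Transfer.hasNormalPComplement_normal_of_le_frattini PX (N.subgroupOf X) hTate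
  have hcop : (Nat.card K₀).Coprime p := by
    rw [← hc.index_eq_card]
    exact (hp.out.coprime_iff_not_dvd.2 S.not_dvd_index).symm
  have hQK : ∀ s ∈ Q, ∀ hsX : s ∈ X, (⟨s, hsX⟩ : X) ∈ pPrimeCore p X := by
    intro s hs hsX
    have hsN : (⟨s, hsX⟩ : X) ∈ N.subgroupOf X := Subgroup.mem_sup_right (S := W) hs
    have h0 : (⟨⟨s, hsX⟩, hsN⟩ : N.subgroupOf X) ∈ K₀ := by
      rw [← QuotientGroup.eq_one_iff, ← orderOf_eq_one_iff]
      obtain ⟨j, hj⟩ := IsPGroup.iff_orderOf.1 hQ ⟨s, hs⟩
      obtain ⟨i, hi⟩ := S.isPGroup'.exists_card_eq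
      have h1 := orderOf_map_dvd (QuotientGroup.mk' K₀) (⟨⟨s, hsX⟩, hsN⟩ : N.subgroupOf X)
      rw [Subgroup.orderOf_mk, Subgroup.orderOf_mk] at h1
      rw [Subgroup.orderOf_mk] at hj
      rw [hj] at h1
      refine Nat.eq_one_of_dvd_coprimes
        (((Nat.coprime_primes hq.out hp.out).2 hpq.symm).pow j i) h1 ?_
      rw [← hi, ← hc.symm.index_eq_card, Subgroup.index_eq_card]
      exact orderOf_dvd_natCard _
    exact ((Subgroup.map_mono (PCore.le_pPrimeCore hcop)).trans
      ((PCore.map_pPrimeCore_subtype_of_normal (N.subgroupOf X)).le.trans inf_le_left))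
        ⟨_, h0, rfl⟩
  have hcen : Q ≤ Subgroup.centralizer (U : Set H) := by
    intro s hs
    rw [Subgroup.mem_centralizer_iff]
    intro u hu
    have hsX : s ∈ X := hNX (Subgroup.mem_sup_right (S := W) hs)
    have huX : u ∈ X := hPX (hUP hu)
    have hUX : U.subgroupOf X ≤ pCore p X := PCore.le_pCore
      (PCore.isPGroup_pCore.comap_of_injective X.subtype X.subtype_injective)
    exact congrArg Subtype.val
      (PCore.commute_of_mem_cores (a := (⟨u, huX⟩ : X)) (hUX hu) (hQK s hs hsX))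
  have hQU : Q ≤ U := hcen.trans (PCore.centralizer_pCore_le hps hcore)
  exact (IsPGroup.disjoint_of_ne p q hpq U Q PCore.isPGroup_pCore hQ).eq_bot_of_ge hQU

/-- The main theorem, by induction on the order. -/
theorem not_dvd_index_pPrimeCore_aux (hpq : p ≠ q) : ∀ (n : ℕ) (H : Type u) [Group H] [Fintype H],
    Nat.card H = n → IsPSolvable p H → IsPSolvable q H →
    (∀ χ : IrrCharacter H, Char.TrivOn (pPrimeCore p H) χ.1 → ¬ p ∣ charDegree χ.1 →
      ¬ q ∣ charDegree χ.1) → ¬ q ∣ (pPrimeCore p H).index := by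
  intro n
  induction n using Nat.strong_induction_on with
  | _ n ih =>
  intro H _ _ hn hps hqs hyp
  -- quotients by nontrivial normal subgroups satisfy the conclusion
  have hquot : ∀ (N : Subgroup H) [N.Normal], N ≠ ⊥ →
      (∀ x : H, x ∈ pPrimeCore p H → (x : H ⧸ N) ∈ pPrimeCore p (H ⧸ N)) →
      ¬ q ∣ (pPrimeCore p (H ⧸ N)).index := by
    intro N _ hN1 himg
    haveI := Fintype.ofFinite (H ⧸ N)
    refine ih _ ?_ (H ⧸ N) rfl (PCore.isPSolvable_quotient hps N)
      (PCore.isPSolvable_quotient hqs N) fun ψ hψ hd => ?_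
    · rw [← hn, ← Subgroup.index_eq_card, ← Subgroup.card_mul_index N]
      exact lt_mul_left (Nat.pos_of_ne_zero Subgroup.index_ne_zero_of_finite)
        (N.one_lt_card_iff_ne_bot.2 hN1)
    have hd' : charDegree (Char.inflate N ψ).1 = charDegree ψ.1 := by
      simp [charDegree, Char.inflate_apply]
    rw [← hd'] at hd ⊢
    exact hyp _ (fun x hx => hψ _ (himg x hx)) hd
  by_cases hA : pPrimeCore p H = ⊥
  swap
  · have h := hquot _ hA (fun x hx => by
      rw [(QuotientGroup.eq_one_iff x).2 hx]; exact one_mem _)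
    rwa [PCore.pPrimeCore_quotient_self_eq_bot, Subgroup.index_bot, ← Subgroup.index_eq_card] at h
  rw [hA, Subgroup.index_bot]
  have hyp' : ∀ χ : IrrCharacter H, ¬ p ∣ charDegree χ.1 → ¬ q ∣ charDegree χ.1 := fun χ =>
    hyp χ fun x hx => by rw [hA, Subgroup.mem_bot] at hx; rw [hx]
  set U := pCore p H with hU
  haveI := Fintype.ofFinite U
  rcases eq_or_ne U ⊥ with hU1 | hU1
  · have h1 := PCore.centralizer_pCore_le hps hA
    rw [← hU, hU1] at h1
    have h2 : (⊤ : Subgroup H) = ⊥ := le_bot_iff.1 ((le_of_eq (by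
      refine (eq_top_iff.2 fun g _ => ?_).symm
      rw [Subgroup.mem_centralizer_iff]
      intro y hy
      rw [Subgroup.coe_bot, Set.mem_singleton_iff] at hy
      rw [hy, one_mul, mul_one])).trans h1)
    rw [← Subgroup.card_top, h2, Subgroup.card_bot]
    exact hq.out.not_dvd_one
  set f := QuotientGroup.mk' U with hf
  have hsurj := QuotientGroup.mk'_surjective U
  haveI := Fintype.ofFinite (H ⧸ U)
  set K := pPrimeCore p (H ⧸ U)
  haveI := Fintype.ofFinite K
  have hKi : ¬ q ∣ K.index := hquot U hU1 fun x hx => by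
    rw [hA, Subgroup.mem_bot] at hx; rw [hx]; exact one_mem _
  have hKp : ¬ p ∣ Nat.card K := PCore.not_dvd_card_pPrimeCore
  obtain ⟨P⟩ : Nonempty (Sylow p H) := inferInstance
  set Pb := (P : Subgroup H).map f
  have hPb : IsPGroup p Pb := P.isPGroup'.map f
  haveI : Group.IsNilpotent Pb := hPb.isNilpotent
  have hPbn : Pb ≤ Subgroup.normalizer (K : Set (H ⧸ U)) := by
    rw [Subgroup.normalizer_eq_top_iff.2 (inferInstance : K.Normal)]; exact le_top
  obtain ⟨Qs, hQs⟩ := Coprime.exists_invariant_sylow hPbn (coprime_card_of_isPGroup hPb hKp)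
    (Or.inl inferInstance) q
  set Qb := (Qs : Subgroup K).map K.subtype
  have hQbK : Qb ≤ K := Subgroup.map_subtype_le _
  have hC : K ⊓ Subgroup.centralizer (Pb : Set (H ⧸ U)) ≤ Subgroup.normalizer (Qb : Set (H ⧸ U)) := by
    refine inf_centralizer_le_normalizer (PCore.isPSolvable_quotient hqs U) K Pb Qb hPb hKp ?_
      hQbK (isPGroup_map_sylow Qs) (not_dvd_relIndex_map_sylow Qs) hQs
    refine not_dvd_degree_of_fixed K Pb hPb hKp ?_ fun χ hd => ?_
    · intro h
      exact P.not_dvd_index ((h.trans (Subgroup.index_dvd_of_le le_sup_right)).trans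
        (Subgroup.index_map_dvd _ hsurj))
    · have hd' : charDegree (Char.inflate U χ).1 = charDegree χ.1 := by
        simp [charDegree, Char.inflate_apply]
      rw [← hd'] at hd ⊢
      exact hyp' _ hd
  set R := Qb.comap f
  have hUP : U ≤ (P : Subgroup H) := PCore.pCore_le_sylow P
  have hUR : U ≤ R := fun x hx => by
    show f x ∈ Qb
    rw [hf, QuotientGroup.mk'_apply, (QuotientGroup.eq_one_iff x).2 hx]
    exact one_mem _
  set S := K.comap f
  have hUS : U ≤ S := fun x hx => by
    show f x ∈ K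
    rw [hf, QuotientGroup.mk'_apply, (QuotientGroup.eq_one_iff x).2 hx]
    exact one_mem _
  haveI : S.Normal := inferInstanceAs (K.comap f).Normal
  have hSi : ¬ q ∣ S.index := by rwa [Subgroup.index_comap_of_surjective _ hsurj]
  have hcomm : ∀ x ∈ R, ∀ u ∈ U, x * u * x⁻¹ * u⁻¹ ∈
      (commutator (P : Subgroup H)).map (P : Subgroup H).subtype := by
    intro x hx u hu
    have huc : x * u * x⁻¹ * u⁻¹ ∈ U :=
      mul_mem ((inferInstance : U.Normal).conj_mem u hu x) (inv_mem hu)
    refine ⟨⟨_, hUP huc⟩, commutator_mem_of_linear fun μ => ?_, rfl⟩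
    obtain ⟨hI, hPI⟩ := not_dvd_index_inertia P U hUP hyp' μ
    set I := Char.inertia U (fun u : U => μ (Subgroup.inclusion hUP u)) with hIdef
    have hUI : U ≤ I := hUP.trans hPI
    set J := (I ⊓ S).map f
    have hJK : J ≤ K := (Subgroup.map_mono inf_le_right).trans (Subgroup.map_comap_le f K)
    have hJrel : ¬ q ∣ J.relIndex K := by
      intro h
      have h1 : q ∣ (I ⊓ S).index := (h.trans (Dvd.intro _ (Subgroup.relIndex_mul_index hJK))).trans
        (Subgroup.index_map_dvd _ hsurj)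
      rw [← Subgroup.relIndex_mul_index (inf_le_left : I ⊓ S ≤ I), Subgroup.inf_relIndex_left] at h1
      exact hq.out.not_dvd_mul (fun h2 => hSi (h2.trans (Subgroup.relIndex_dvd_index_of_normal S I)))
        hI h1
    have hPJ : Pb ≤ Subgroup.normalizer (J : Set (H ⧸ U)) := by
      refine (Subgroup.map_mono ?_).trans (Subgroup.le_normalizer_map f)
      refine Coprime.le_normalizer_inf_of_le (hPI.trans Subgroup.le_normalizer) ?_
      rw [Subgroup.normalizer_eq_top_iff.2 (inferInstance : S.Normal)]; exact le_top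
    obtain ⟨R', hR'⟩ := Coprime.exists_invariant_sylow (A := Pb) (K := J) hPJ
      ((coprime_card_of_isPGroup hPb hKp).coprime_dvd_right (Subgroup.card_dvd_of_le hJK))
      (Or.inl inferInstance) q
    have hR2J := Subgroup.map_subtype_le (R' : Subgroup J)
    obtain ⟨Q2, hR2Q2, hQ2⟩ := Coprime.exists_invariant_sylow_ge hPbn
      (coprime_card_of_isPGroup hPb hKp) (Or.inl inferInstance) (hR2J.trans hJK)
      (isPGroup_map_sylow R') hR'
    have hR2rel : ¬ q ∣ ((R' : Subgroup J).map J.subtype).relIndex K := by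
      rw [← Subgroup.relIndex_mul_relIndex _ J K hR2J hJK]
      exact hq.out.not_dvd_mul (not_dvd_relIndex_map_sylow R') hJrel
    have hR2 := eq_of_le_of_isPGroup hR2Q2 (Subgroup.map_subtype_le _) (isPGroup_map_sylow Q2) hR2rel
    obtain ⟨c, hcP, hc⟩ := Coprime.exists_centralizer_smul_sylow hPbn
      (coprime_card_of_isPGroup hPb hKp) (Or.inl inferInstance) Qs Q2 hQs hQ2
    have hQbJ : Qb ≤ J := by
      have h2 : MulAut.conj (c : H ⧸ U) • Qb = Qb :=
        Coprime.conj_smul_eq_self_of_mem (hC ⟨c.2, hcP⟩)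
      have h3 : (Q2 : Subgroup K).map K.subtype = Qb := by
        rw [← hc, Sylow.coe_subgroup_smul, Coprime.map_conj_smul, K.coe_subtype, h2]
      rw [← h3, ← hR2]
      exact hR2J
    obtain ⟨y, hy, hyx⟩ : f x ∈ J := hQbJ hx
    have hxI : x ∈ I := by
      rw [show x = y * (y⁻¹ * x) by group]
      refine mul_mem hy.1 (hUI ?_)
      exact (QuotientGroup.eq).1 hyx
    have h4 : μ ⟨x * u * x⁻¹, hUP ((inferInstance : U.Normal).conj_mem u hu x)⟩ =
        μ ⟨u, hUP hu⟩ := congrFun hxI (⟨u, hu⟩ : U)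
    rw [show (⟨x * u * x⁻¹ * u⁻¹, hUP huc⟩ : (P : Subgroup H)) =
      ⟨x * u * x⁻¹, hUP ((inferInstance : U.Normal).conj_mem u hu x)⟩ * ⟨u, hUP hu⟩⁻¹ from rfl,
      map_mul, h4, ← map_mul, mul_inv_cancel, map_one]
  obtain ⟨Q1s⟩ : Nonempty (Sylow q R) := inferInstance
  set Q1 := (Q1s : Subgroup R).map R.subtype
  have hQ1R : Q1 ≤ R := Subgroup.map_subtype_le _
  have hQ1rel : ¬ q ∣ Q1.relIndex R := not_dvd_relIndex_map_sylow Q1s
  have hRU : R.map f = Qb := Subgroup.map_comap_eq_self_of_surjective hsurj Qb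
  have hRUQ : R ≤ U ⊔ Q1 := by
    rw [← Subgroup.relIndex_eq_one]
    obtain ⟨j, hj⟩ := (isPGroup_map_sylow Qs).exists_card_eq
    have h1 : (U ⊔ Q1).relIndex R ∣ q ^ j := by
      rw [← hj]
      show _ ∣ Nat.card Qb
      rw [← hRU, hf, ← PCore.relIndex_eq_card_map_mk']
      exact Subgroup.relIndex_dvd_of_le_left R le_sup_left
    have h2 : ¬ q ∣ (U ⊔ Q1).relIndex R := fun h =>
      hQ1rel (h.trans (Subgroup.relIndex_dvd_of_le_left R le_sup_right))
    exact Nat.eq_one_of_dvd_coprimes ((hq.out.coprime_iff_not_dvd.2 h2).pow_left j) h1 dvd_rfl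
  have hPR : (P : Subgroup H) ≤ Subgroup.normalizer (R : Set H) := by
    refine le_trans ?_ (Subgroup.le_normalizer_comap f)
    exact Subgroup.map_le_iff_le_comap.1 hQs
  have hQ1 := eq_bot_of_commutator_le hps hpq hA P R Q1 hUR hPR hQ1R (isPGroup_map_sylow Q1s)
    hQ1rel hRUQ hcomm
  have hQb : Qb = ⊥ := by
    rw [← hRU, Subgroup.map_eq_bot_iff, hf, QuotientGroup.ker_mk']
    exact hRUQ.trans (by rw [hQ1, sup_bot_eq])
  have hK : ¬ q ∣ Nat.card K := by
    have := not_dvd_relIndex_map_sylow Qs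
    change ¬ q ∣ Qb.relIndex K at this
    rwa [hQb, Subgroup.relIndex_bot_left] at this
  rw [← Subgroup.card_mul_index U, Subgroup.index_eq_card, ← Subgroup.card_mul_index K]
  obtain ⟨j, hj⟩ := (PCore.isPGroup_pCore (G := H) (p := p)).exists_card_eq
  refine hq.out.not_dvd_mul ?_ (hq.out.not_dvd_mul hK hKi)
  rw [hj]
  exact fun h => hpq (Nat.prime_dvd_prime_iff_eq hq.out hp.out |>.1 (hq.out.dvd_of_dvd_pow h)).symm

/-- If all characters of `p'`-degree trivial on `O_{p'}` have `q'`-degree, then `q` does not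
divide the index of `O_{p'}`. -/
theorem not_dvd_index_pPrimeCore (hpq : p ≠ q) (hps : IsPSolvable p H) (hqs : IsPSolvable q H)
    (hyp : ∀ χ : IrrCharacter H, Char.TrivOn (pPrimeCore p H) χ.1 → ¬ p ∣ charDegree χ.1 →
      ¬ q ∣ charDegree χ.1) : ¬ q ∣ (pPrimeCore p H).index :=
  not_dvd_index_pPrimeCore_aux hpq _ H rfl hps hqs hyp

end Cfsg.Agent.BlockPLength
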